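import Groth.Prelude.Def_FlatMod2
import Groth.Agent.GrT.TwistEpi
import Groth.Agent.QC.Support
import Groth.Agent.KFlat.Pullback

/-!
Maps out of free modules lift locally along epimorphisms.
-/

set_option autoImplicit false
set_option backward.isDefEq.respectTransparency false

universe u

open CategoryTheory CategoryTheory.Limits AlgebraicGeometry TopologicalSpace Opposite
open Groth.Agent.QC (res res_res app_res)

noncomputable section

namespace FinLFLift

variable {X : Scheme.{u}}

/-- A map out of the structure sheaf is determined by the image of `1`. -/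
theorem hom_ext_one {M : X.Modules} (f g : Coh.structureModule X ⟶ M)
    (h : f.app ⊤ (1 : Γ(X, ⊤)) = g.app ⊤ (1 : Γ(X, ⊤))) : f = g := by
  refine Scheme.Modules.hom_ext _ _ fun W => ?_
  ext (c : Γ(X, W))
  have key : ∀ k : Coh.structureModule X ⟶ M,
      k.app W c = c • res M (le_top : W ≤ ⊤) (k.app ⊤ (1 : Γ(X, ⊤))) := fun k => by
    refine Eq.trans (congrArg (fun z : Γ(Coh.structureModule X, W) => k.app W z) ?_)
      ((k.app_smul (U := W) c (res (Coh.structureModule X) (le_top : W ≤ ⊤) (1 : Γ(X, ⊤)))).trans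
        (congrArg (c • ·) (app_res k le_top _).symm))
    change c = c * X.presheaf.map (homOfLE (le_top : W ≤ ⊤)).op (1 : Γ(X, ⊤))
    rw [map_one, mul_one]
  rw [key f, key g, h]

/-- Sections lift locally along an epimorphism. -/
theorem exists_lift_section {F G : X.Modules} (p : G ⟶ F) [Epi p] {U : X.Opens} (t : Γ(F, U))
    {x : X} (hx : x ∈ U) :
    ∃ (V : X.Opens) (hV : V ≤ U), x ∈ V ∧ ∃ s : Γ(G, V), p.app V s = res F hV t := by
  have hs : Function.Surjective ((DerSch.stalkFunctor X x).map p).hom :=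
    (ModuleCat.epi_iff_surjective _).mp inferInstance
  obtain ⟨m, hm⟩ := hs (F.presheaf.germ U x hx t)
  obtain ⟨W, hW, s, rfl⟩ := G.presheaf.exists_germ_eq (x := x) m
  rw [show ((DerSch.stalkFunctor X x).map p).hom (G.presheaf.germ W x hW s) =
    F.presheaf.germ W x hW (p.app W s) from DerSch.stalkFunctor_map_germ x p W hW s] at hm
  obtain ⟨V, hxV, i₁, i₂, e⟩ := TopCat.Presheaf.germ_eq F.presheaf x hW hx _ _ hm
  refine ⟨V, i₂.le, hxV, res G i₁.le s, ?_⟩
  rw [← app_res]
  exact e

/-- A map out of a finite free module lifts along an epimorphism near each point. -/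
theorem exists_lift_free {F G : X.Modules} (p : G ⟶ F) [Epi p] {n : ℕ}
    (q : FlatMod.freeMod X n ⟶ F) (x : X) :
    ∃ W : X.Opens, x ∈ W ∧ ∀ {Y : Scheme.{u}} (j : Y ⟶ X) [IsOpenImmersion j], j.opensRange ≤ W →
      ∃ g : (FlatMod.freeMod X n).restrict j ⟶ G.restrict j,
        g ≫ (Scheme.Modules.restrictFunctor j).map p =
          (Scheme.Modules.restrictFunctor j).map q := by
  classical
  let ι : Fin n → (Coh.structureModule X ⟶ FlatMod.freeMod X n) :=
    fun i => Sigma.ι (fun _ : Fin n => Coh.structureModule X) i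
  let t : Fin n → Γ(F, ⊤) := fun i => (ι i ≫ q).app ⊤ (1 : Γ(X, ⊤))
  choose V hV hxV s hs using fun i => exists_lift_section p (t i) (x := x) (U := ⊤) trivial
  refine ⟨Finset.univ.inf V, ?_, fun {Y} j _ hj => ?_⟩
  · rw [← SetLike.mem_coe, TopologicalSpace.Opens.coe_finset_inf]
    simp only [Finset.inf_set_eq_iInter, Set.mem_iInter]
    exact fun i _ => hxV i
  let adj := Scheme.Modules.restrictAdjunction j
  have hle : ∀ i, j ''ᵁ (j ⁻¹ᵁ ⊤) ≤ V i := fun i =>
    ((j.image_le_opensRange _).trans hj).trans (Finset.inf_le (Finset.mem_univ i))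
  refine ⟨(adj.homEquiv _ _).symm (Sigma.desc fun i =>
    GrT.homOfSection ((Scheme.Modules.pushforward j).obj (G.restrict j)) (res G (hle i) (s i))), ?_⟩
  rw [← adj.homEquiv_naturality_right_symm, Equiv.symm_apply_eq, adj.homEquiv_unit]
  refine Sigma.hom_ext _ _ fun i => ?_
  rw [Sigma.ι_desc_assoc, adj.unit_naturality q, ← Category.assoc]
  refine hom_ext_one _ _ ?_
  have h1 : p.app _ (res G (hle i) (s i)) = res F (le_top : j ''ᵁ (j ⁻¹ᵁ ⊤) ≤ ⊤) (t i) := by
    rw [← app_res, hs i, res_res]
  refine Eq.trans ?_ h1 |>.trans ?_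
  · refine congrArg (p.app _) ?_
    change (GrT.homOfSection ((Scheme.Modules.pushforward j).obj (G.restrict j))
      (res G (hle i) (s i))).app ⊤ (1 : Γ(X, ⊤)) = _
    rw [GrT.homOfSection_app, Groth.Agent.QC.res_self, one_smul]
  · rfl

end FinLFLift
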